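import Groth.Prelude.Def_NonAbH2
import Groth.Agent.H46.SectOpenSmooth
import Groth.Agent.Lib.ConstRigid.Basic
import Groth.Agent.Lib.TorsorSch.Basic
import Groth.Agent.Lib.Unram.EtaleMono
import Mathlib.AlgebraicGeometry.Geometrically.Connected
import Mathlib.AlgebraicGeometry.Morphisms.UniversallyInjective

/-!
# Torsors under constant groups over smooth schemes with connected fibres and a section
-/

set_option autoImplicit false
set_option linter.style.haveILetI false

noncomputable section

universe u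

open CategoryTheory CategoryTheory.Limits MonoidalCategory CartesianMonoidalCategory AlgebraicGeometry

namespace Groth.Agent.Lib.SectTriv76

/-- The union of the components through a section is open, for a quasi-separated smooth morphism. -/
theorem isOpen_sectionComponents {X S : Scheme.{u}} (f : X ⟶ S) [Smooth f] [QuasiSeparated f] {g : S ⟶ X}
    (hg : g ≫ f = 𝟙 S) : IsOpen (MoreMor.sectionComponents f g) := by
  refine isOpen_iff_mem_nhds.2 fun x hx => ?_
  obtain ⟨U, hU, hyU, -⟩ := exists_isAffineOpen_mem_and_subset (X := S) (x := f x) (U := ⊤) trivial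
  haveI : IsAffine (U : Scheme.{u}) := hU
  let ι := (f ⁻¹ᵁ U).ι
  haveI : QuasiSeparated (f ∣_ U) := IsZariskiLocalAtTarget.restrict ‹QuasiSeparated f› U
  haveI : QuasiSeparatedSpace ↥(f ⁻¹ᵁ U : Scheme.{u}) := quasiSeparatedSpace_of_quasiSeparated (f ∣_ U)
  let σ : (U : Scheme.{u}) ⟶ (f ⁻¹ᵁ U : Scheme.{u}) :=
    IsOpenImmersion.lift ι (U.ι ≫ g) (by
      rintro _ ⟨v, rfl⟩
      rw [Scheme.Opens.range_ι]
      show (U.ι ≫ g ≫ f) v ∈ U
      rw [hg, Category.comp_id]
      exact v.2)
  have hσι : σ ≫ ι = U.ι ≫ g := IsOpenImmersion.lift_fac _ _ _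
  have hσ : σ ≫ (f ∣_ U) = 𝟙 _ := by
    rw [← cancel_mono U.ι, Category.assoc, morphismRestrict_ι, reassoc_of% hσι, hg,
      Category.comp_id, Category.id_comp]
  have e : MoreMor.sectionComponents (f ∣_ U) σ = ι ⁻¹' MoreMor.sectionComponents f g :=
    Groth.Agent.H54.SectionComp.result f g hg (f ∣_ U) ι U.ι
      (isPullback_morphismRestrict f U).flip σ hσ hσι
  obtain ⟨w, rfl⟩ : x ∈ Set.range ι := by
    rw [Scheme.Opens.range_ι]; exact hyU
  have h := Groth.Agent.H46.SectOpenSmooth.isOpen_of_isAffine (f ∣_ U) hσ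
  rw [e] at h
  exact Filter.mem_of_superset ((ι.isOpenEmbedding.isOpenMap _ h).mem_nhds ⟨w, hx, rfl⟩)
    (Set.image_preimage_subset _ _)

variable {S P : Scheme.{u}} (p : P ⟶ S) [GeometricallyConnected p] (e : S ⟶ P)
  {E : Scheme.{u}} (π : E ⟶ P) [Etale π] [IsSeparated π] (e' : S ⟶ E)

theorem closed_open_of_section {A B : Scheme.{u}} (q : A ⟶ B) [Etale q] [IsSeparated q] (τ : B ⟶ A)
    (hτ : τ ≫ q = 𝟙 B) : IsClosedImmersion τ ∧ IsOpenImmersion τ := by
  haveI : IsClosedImmersion (τ ≫ q) := by rw [hτ]; infer_instance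
  haveI : IsClosedImmersion τ := IsClosedImmersion.of_comp τ q
  haveI : Etale (τ ≫ q) := by rw [hτ]; infer_instance
  haveI : Etale τ := Etale.of_comp τ q
  exact ⟨inferInstance, IsOpenImmersion.of_flat_of_mono τ⟩

/-- Two sections agreeing on a section of the base are equal. -/
theorem section_unique (he : e ≫ p = 𝟙 S) (g g' : P ⟶ E) (hg : g ≫ π = 𝟙 P) (hg' : g' ≫ π = 𝟙 P)
    (h : e ≫ g = e ≫ g') : g = g' := by
  obtain ⟨_, _⟩ := closed_open_of_section π g' hg'
  have hclopen : IsClopen (g.base ⁻¹' Set.range g'.base) :=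
    ⟨g'.isClosedEmbedding.isClosed_range.preimage g.continuous,
      g'.isOpenEmbedding.isOpen_range.preimage g.continuous⟩
  have hsub : Set.range g.base ⊆ Set.range g'.base := by
    rintro _ ⟨x, rfl⟩
    refine (p.isConnected_preimage_singleton (p x)).isPreconnected.subset_isClopen hclopen
      ⟨e (p x), ?_, ?_⟩ rfl
    · show (e ≫ p) (p x) = p x
      rw [he]; rfl
    · exact ⟨e (p x), congr($h.symm (p x))⟩
  have hl := IsOpenImmersion.lift_fac g' g hsub
  have : IsOpenImmersion.lift g' g hsub = 𝟙 P := by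
    have e1 := congrArg (· ≫ π) hl
    simp only [Category.assoc, hg', Category.comp_id] at e1
    exact e1.trans hg
  rw [← hl, this, Category.id_comp]

/-- A section, given on each fibre a section through a given point. -/
theorem exists_section [Smooth p] [QuasiSeparated p] (he : e ≫ p = 𝟙 S) (he' : e' ≫ π = e)
    (H : ∀ s : S, ∃ τ : pullback p (S.fromSpecResidueField s) ⟶ pullback π (pullback.fst p (S.fromSpecResidueField s)),
      τ ≫ pullback.snd π _ = 𝟙 _ ∧ e' s ∈ Set.range (τ ≫ pullback.fst π _).base) :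
    ∃ g : P ⟶ E, g ≫ π = 𝟙 P ∧ e ≫ g = e' := by
  have hse : e' ≫ π ≫ p = 𝟙 S := by rw [reassoc_of% he', he]
  let C : E.Opens := ⟨MoreMor.sectionComponents (π ≫ p) e', isOpen_sectionComponents (π ≫ p) hse⟩
  have hP : ∀ s : S, ∀ x : P, x ∈ Set.range (pullback.fst p (S.fromSpecResidueField s)).base ↔ p x = s := by
    intro s x
    rw [Scheme.Pullback.range_fst, Set.mem_preimage, Scheme.range_fromSpecResidueField, Set.mem_singleton_iff]
  have hfib : ∀ (s : S) (τ : pullback p (S.fromSpecResidueField s) ⟶ pullback π (pullback.fst p (S.fromSpecResidueField s))),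
      τ ≫ pullback.snd π _ = 𝟙 _ → e' s ∈ Set.range (τ ≫ pullback.fst π _).base →
      ∀ y : ↥(pullback π (pullback.fst p (S.fromSpecResidueField s))),
        (pullback.fst π _).base y ∈ C ↔ y ∈ Set.range τ.base := by
    intro s τ hτ hs y
    let q := pullback.fst π (pullback.fst p (S.fromSpecResidueField s))
    haveI : IsPreimmersion (pullback.fst p (S.fromSpecResidueField s)) :=
      MorphismProperty.pullback_fst _ _ inferInstance
    haveI : IsPreimmersion q := MorphismProperty.pullback_fst _ _ inferInstance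
    obtain ⟨_, _⟩ := closed_open_of_section (pullback.snd π _) τ hτ
    have hτcl : IsClopen (Set.range τ.base) :=
      ⟨τ.isClosedEmbedding.isClosed_range, τ.isOpenEmbedding.isOpen_range⟩
    haveI : ConnectedSpace ↥(pullback p (S.fromSpecResidueField s)) :=
      inferInstanceAs (ConnectedSpace (p.fiber s))
    have hrange : Set.range q.base = (π ≫ p).base ⁻¹' {s} := by
      rw [Scheme.Pullback.range_fst]
      ext z
      exact hP s _
    have hys : (π ≫ p).base (q.base y) = s := by
      have : q.base y ∈ (π ≫ p).base ⁻¹' {s} := hrange ▸ ⟨y, rfl⟩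
      exact this
    obtain ⟨x₀, hx₀⟩ := hs
    have hy₀ : q.base (τ.base x₀) = e' s := hx₀
    show q.base y ∈ MoreMor.sectionComponents (π ≫ p) e' ↔ _
    rw [MoreMor.sectionComponents, Set.mem_ofPred_eq, hys, ← hrange]
    constructor
    · intro hy
      have hpre : _root_.IsPreconnected (q.base ⁻¹' connectedComponentIn (Set.range q.base) (e'.base s)) := by
        rw [← q.isEmbedding.isInducing.isPreconnected_image,
          Set.image_preimage_eq_of_subset (connectedComponentIn_subset _ _)]
        exact isPreconnected_connectedComponentIn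
      refine hpre.subset_isClopen hτcl ⟨τ.base x₀, ?_, ⟨x₀, rfl⟩⟩ hy
      rw [Set.mem_preimage]
      rw [hy₀]
      exact mem_connectedComponentIn ⟨τ.base x₀, hy₀⟩
    · rintro ⟨x, rfl⟩
      refine (((isPreconnected_univ.image _ τ.continuous.continuousOn).image _
        q.continuous.continuousOn).subset_connectedComponentIn ⟨τ.base x₀, ⟨x₀, trivial, rfl⟩, hy₀⟩ ?_) ?_
      · exact Set.image_subset_range _ _
      · exact ⟨τ.base x, ⟨x, trivial, rfl⟩, rfl⟩
  let φ : (C : Scheme.{u}) ⟶ P := C.ι ≫ π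
  haveI : UniversallyInjective φ := ((tfae_universallyInjective φ).out 1 0).1 (by
    intro K _ g₁ g₂ hg
    let w : Spec (CommRingCat.of K) ⟶ P := g₁ ≫ φ
    let s : S := (w ≫ p) (IsLocalRing.closedPoint K)
    let w' : Spec (CommRingCat.of K) ⟶ pullback p (S.fromSpecResidueField s) :=
      pullback.lift w (Spec.map (S.descResidueField (Scheme.stalkClosedPointTo (w ≫ p))))
        (S.descResidueField_stalkClosedPointTo_fromSpecResidueField K (w ≫ p)).symm
    obtain ⟨τ, hτ, hs⟩ := H s
    obtain ⟨_, _⟩ := closed_open_of_section (pullback.snd π _) τ hτ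
    have key : ∀ (g : Spec (CommRingCat.of K) ⟶ C) (hgw : g ≫ φ = w),
        ∃ h : Spec (CommRingCat.of K) ⟶ pullback p (S.fromSpecResidueField s),
          h ≫ τ ≫ pullback.fst π _ = g ≫ C.ι ∧ h = w' := by
      intro g hgw
      let g' := pullback.lift (f := π) (g := pullback.fst p (S.fromSpecResidueField s)) (g ≫ C.ι) w'
        (by rw [Category.assoc, pullback.lift_fst]; exact hgw)
      have hr : Set.range g'.base ⊆ Set.range τ.base := by
        rintro _ ⟨z, rfl⟩
        refine (hfib s τ hτ hs _).1 ?_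
        have e0 : g' ≫ pullback.fst π _ = g ≫ C.ι := pullback.lift_fst _ _ _
        have : (pullback.fst π _).base (g'.base z) = C.ι.base (g.base z) := congr($e0 z)
        rw [this]
        exact (g.base z).2
      have hl := IsOpenImmersion.lift_fac τ g' hr
      refine ⟨IsOpenImmersion.lift τ g' hr, by rw [reassoc_of% hl, pullback.lift_fst], ?_⟩
      have e1 := congrArg (· ≫ pullback.snd π _) hl
      simp only [Category.assoc, hτ, Category.comp_id] at e1
      exact e1.trans (pullback.lift_snd _ _ _)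
    obtain ⟨h₁, e₁, rfl⟩ := key g₁ rfl
    obtain ⟨h₂, e₂, rfl⟩ := key g₂ hg.symm
    rw [← cancel_mono C.ι, ← e₁, ← e₂])
  haveI : Surjective φ := ⟨fun x => by
    obtain ⟨τ, hτ, hs⟩ := H (p x)
    obtain ⟨x', hx'⟩ := (hP (p x) x).2 rfl
    refine ⟨⟨(pullback.fst π _).base (τ.base x'), (hfib _ τ hτ hs _).2 ⟨x', rfl⟩⟩, ?_⟩
    show (τ ≫ pullback.fst π _ ≫ π).base x' = x
    rw [pullback.condition, reassoc_of% hτ]
    exact hx'⟩
  haveI : Surjective (pullback.diagonal φ) := (UniversallyInjective.iff_diagonal φ).1 inferInstance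
  haveI := Groth.Agent.Lib.Unram.EtaleMono.isOpenImmersion_of_surjective_diagonal φ
  haveI : IsIso φ := (isIso_iff_isOpenImmersion_and_surjective φ).2 ⟨inferInstance, inferInstance⟩
  refine ⟨inv φ ≫ C.ι, IsIso.inv_hom_id φ ▸ Category.assoc _ _ _, ?_⟩
  have hr : Set.range e'.base ⊆ (C : Set E) := by
    rintro _ ⟨s, rfl⟩
    have hs : (π ≫ p).base (e'.base s) = s := congr($hse s)
    show e'.base s ∈ connectedComponentIn ((π ≫ p).base ⁻¹' ({(π ≫ p).base (e'.base s)} : Set S) : Set E) (e'.base ((π ≫ p).base (e'.base s)))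
    rw [hs]
    exact mem_connectedComponentIn hs
  let l := IsOpenImmersion.lift C.ι e' (by rw [Scheme.Opens.range_ι]; exact hr)
  have hl : l ≫ C.ι = e' := IsOpenImmersion.lift_fac _ _ _
  have : l ≫ φ = e := by rw [← he', ← hl, Category.assoc]
  rw [← this, Category.assoc, IsIso.hom_inv_id_assoc, hl]

end Groth.Agent.Lib.SectTriv76
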